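import Groth.Prelude.Def_DefoConn
import Groth.Prelude.Def_KLin
import Groth.Agent.Lib.DerivedOX.Calculus
import Groth.Agent.Lib.DerivedOX.FlatTensor
import Groth.Agent.Lib.DerivedOX.PullTensor
import Groth.Agent.Lib.Modules.TensorSec
import Groth.Agent.Lib.TensorMod.FPConv
import Mathlib.RingTheory.Flat.EquationalCriterion

/-!
# Deformations over the dual numbers: the sequence `0 → E → D → E → 0`, connections
-/

set_option autoImplicit false
universe u

open CategoryTheory Limits AlgebraicGeometry Opposite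

namespace Groth.Agent.Lib.DefoDual.Basic

open Groth.Agent.Lib Groth.Agent.Lib.Modules

noncomputable section

variable {k : Type u} [Field k] {X : Scheme.{u}} [X.Over (Spec (CommRingCat.of k))]
  {E : X.Modules} {D : DefoSh.Defo E (ArtFun.Art.dual k k)} {ι : E ⟶ D.sheaf}

/-- `ε` as an element of the coefficient ring. -/
abbrev eps : (ArtFun.Art.dual k k : ArtFun.Art k k) := (DualNumber.eps : DualNumber k)

/-- The action as a morphism. -/
abbrev actM (D : DefoSh.Defo E (ArtFun.Art.dual k k)) (a : (ArtFun.Art.dual k k : ArtFun.Art k k)) :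
    D.sheaf ⟶ D.sheaf := D.act a

/-- The hypothesis on `ι`. -/
def IsEps (D : DefoSh.Defo E (ArtFun.Art.dual k k)) (ι : E ⟶ D.sheaf) : Prop :=
  D.π ≫ ι = actM D eps

variable (D) in
lemma act_add_smul (a : (ArtFun.Art.dual k k : ArtFun.Art k k)) :
    actM D a = TrivSqZeroExt.fst a • 𝟙 D.sheaf + TrivSqZeroExt.snd a • actM D eps := by
  have h : a = algebraMap k (ArtFun.Art.dual k k : ArtFun.Art k k) (TrivSqZeroExt.fst a) +
      TrivSqZeroExt.snd a • (eps : (ArtFun.Art.dual k k : ArtFun.Art k k)) := by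
    show (a : DualNumber k) = algebraMap k (DualNumber k) (TrivSqZeroExt.fst a) +
      TrivSqZeroExt.snd a • (DualNumber.eps : DualNumber k)
    refine TrivSqZeroExt.ext ?_ ?_ <;> simp [TrivSqZeroExt.algebraMap_eq_inl]
  refine (congrArg D.act h).trans ?_
  rw [map_add, map_smul, AlgHom.commutes, Algebra.algebraMap_eq_smul_one]
  rfl

variable (D) in
lemma epi_π : Epi D.π :=
  (StalkModule.epi_iff_stalkMapₗ_surjective _).mpr fun x => D.surj x

variable (hι : IsEps D ι)
include hι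

lemma ι_π : ι ≫ D.π = 0 := by
  haveI := epi_π D
  rw [← cancel_epi D.π, ← Category.assoc, hι, comp_zero]
  exact D.act_π _ (show TrivSqZeroExt.fst (DualNumber.eps : DualNumber k) = 0 by simp)

lemma act_π (a : (ArtFun.Art.dual k k : ArtFun.Art k k)) :
    actM D a ≫ D.π = TrivSqZeroExt.fst a • D.π := by
  rw [act_add_smul D a, ← hι, Preadditive.add_comp, Linear.smul_comp, Linear.smul_comp,
    Category.id_comp, Category.assoc, ι_π hι, comp_zero, smul_zero, add_zero]

lemma ι_act (a : (ArtFun.Art.dual k k : ArtFun.Art k k)) :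
    ι ≫ actM D a = TrivSqZeroExt.fst a • ι := by
  rw [act_add_smul D a, ← hι, Preadditive.comp_add, Linear.comp_smul, Linear.comp_smul,
    Category.comp_id, ← Category.assoc, ι_π hι, zero_comp, smul_zero, add_zero]

/-- The defining short complex. -/
abbrev seq : ShortComplex X.Modules := ShortComplex.mk ι D.π (ι_π hι)

lemma stalk_ι_π (p : X) (v : D.sheaf.presheaf.stalk p) :
    RefHull.stalkMapₗ ι p (RefHull.stalkMapₗ D.π p v) =
      RefHull.stalkMapₗ (actM D eps) p v := by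
  rw [← hι]
  exact (DefoSh.stalkMapₗ_comp_apply p D.π ι v).symm

theorem shortExact : (seq hι).ShortExact := by
  haveI := epi_π D
  have hmono : Mono ι := by
    rw [StalkModule.mono_iff_stalkMapₗ_injective]
    intro p
    rw [injective_iff_map_eq_zero]
    intro e he
    obtain ⟨v, rfl⟩ := D.surj p e
    letI := DefoSh.stalkModule D.sheaf D.act.toRingHom p
    haveI := D.flat p
    have h0 : ∑ i : Fin 1, (eps (k := k)) • v = 0 := by
      rw [Fin.sum_univ_one]
      exact (stalk_ι_π hι p v).symm.trans he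
    obtain ⟨n, a, y, hv, ha⟩ := Module.Flat.isTrivialRelation_of_sum_smul_eq_zero h0
    rw [show v = _ from hv 0, map_sum]
    refine Finset.sum_eq_zero fun j _ => ?_
    show RefHull.stalkMapₗ D.π p (RefHull.stalkMapₗ (D.act (a 0 j)) p (y j)) = 0
    rw [← DefoSh.stalkMapₗ_comp_apply, D.act_π _ ?_, DefoSh.stalkMapₗ_zero_apply]
    let b : DualNumber k := a 0 j
    have h1 : (DualNumber.eps : DualNumber k) * b = 0 :=
      (Fin.sum_univ_one _).symm.trans (ha j)
    show TrivSqZeroExt.fst b = 0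
    have h2 := congrArg TrivSqZeroExt.snd h1
    rw [TrivSqZeroExt.snd_mul] at h2
    simpa using h2
  refine { exact := ?_, mono_f := hmono, epi_g := inferInstance }
  rw [Modules.Stalk.exact_iff_stalk]
  intro p
  rw [ShortComplex.ab_exact_iff]
  intro v hv
  letI := DefoSh.stalkModule D.sheaf D.act.toRingHom p
  have hm := D.ker_le p v hv
  clear hv
  show ∃ e, RefHull.stalkMapₗ ι p e = v
  induction hm using Submodule.smul_induction_on' with
  | smul a ha w _ =>
    have ha0 : TrivSqZeroExt.fst a = 0 := (ArtFun.Art.mem_maximalIdeal_iff _ a).mp ha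
    let c : (ArtFun.Art.dual k k : ArtFun.Art k k) :=
      algebraMap k (ArtFun.Art.dual k k : ArtFun.Art k k) (TrivSqZeroExt.snd a)
    have hc : eps * c = a := by
      show (DualNumber.eps : DualNumber k) * algebraMap k (DualNumber k) (TrivSqZeroExt.snd a) =
        (a : DualNumber k)
      refine TrivSqZeroExt.ext ?_ ?_ <;> simp [ha0, TrivSqZeroExt.algebraMap_eq_inl]
    refine ⟨RefHull.stalkMapₗ D.π p (RefHull.stalkMapₗ (actM D c) p w), ?_⟩
    rw [stalk_ι_π hι]
    exact (DefoSh.stalkModule D.sheaf D.act.toRingHom p).mul_smul eps c w |>.symm.trans (by rw [hc]; rfl)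
  | add x _ y _ hx hy =>
    obtain ⟨e, he⟩ := hx
    obtain ⟨e', he'⟩ := hy
    refine ⟨e + e', ?_⟩
    erw [map_add, he, he']
    rfl

omit hι

/-! ### Tensoring -/

variable (Ω' : X.Modules)

/-- `f ⊗ 1`. -/
abbrev tm {M N : X.Modules} (f : M ⟶ N) : CohB1.tensorMod M Ω' ⟶ CohB1.tensorMod N Ω' :=
  KoszTw.tensorMap f (𝟙 Ω')

lemma tm_eq {M N : X.Modules} (f : M ⟶ N) :
    tm Ω' f = ((DCoh.tensorBi (X := X)).flip.obj Ω').map f :=
  (KoszTw.tensorBi_map_app f Ω').symm

lemma tm_comp {M N P : X.Modules} (f : M ⟶ N) (g : N ⟶ P) : tm Ω' (f ≫ g) = tm Ω' f ≫ tm Ω' g := by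
  rw [tm_eq, tm_eq, tm_eq, Functor.map_comp]
  rfl

lemma tm_add {M N : X.Modules} (f g : M ⟶ N) : tm Ω' (f + g) = tm Ω' f + tm Ω' g := by
  rw [tm_eq, tm_eq, tm_eq, Functor.map_add]
  rfl

lemma tm_zero {M N : X.Modules} : tm Ω' (0 : M ⟶ N) = 0 := by
  rw [tm_eq, Functor.map_zero]
  rfl

lemma tm_id (M : X.Modules) : tm Ω' (𝟙 M) = 𝟙 _ := by
  rw [tm_eq, CategoryTheory.Functor.map_id]
  rfl

lemma tm_smul_id (M : X.Modules) (c : k) : tm Ω' (c • 𝟙 M) = c • 𝟙 (CohB1.tensorMod M Ω') := by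
  refine Scheme.Modules.hom_ext _ _ fun U => ConcreteCategory.ext_apply fun w => ?_
  refine TensorSec.app_eq_app _ _ (fun V hV m n => ?_) w
  rw [tm, ← KoszTw.tensorBi_map_app, DerivedOX.PullTensor.tensorBi_map_app]
  erw [TensorSec.tmap_tens, KLin.smul_app_apply, KLin.smul_app_apply]
  exact TensorSec.tens_smul_left _ _ _

lemma tm_smul {M N : X.Modules} (c : k) (f : M ⟶ N) : tm Ω' (c • f) = c • tm Ω' f := by
  have : c • f = (c • 𝟙 M) ≫ f := by rw [Linear.smul_comp, Category.id_comp]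
  rw [this, tm_comp, tm_smul_id, Linear.smul_comp, Category.id_comp]

include hι

theorem shortExact_tensor (hE : FlatMod.IsFinLocFree E) :
    ((seq hι).map ((DCoh.tensorBi (X := X)).flip.obj Ω')).ShortExact := by
  haveI : PreservesFiniteColimits ((DCoh.tensorBi (X := X)).flip.obj Ω') :=
    @PreservesColimitsOfSize.preservesFiniteColimits _ _ _ _ _
      (DerivedOX.FlatTensor.preservesColimits_tensorRight_obj Ω')
  haveI := (DerivedOX.Calculus.mono_tensor_of_flat_cokernel (shortExact hι)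
    (TensorMod.FPConv.isFlat_of_isFinLocFree hE) Ω').2
  haveI := epi_π D
  refine { exact := ?_, mono_f := ‹_›, epi_g := ?_ }
  · have hh : ∀ S : ShortComplex X.Modules, S.ShortExact →
        (S.map ((DCoh.tensorBi (X := X)).flip.obj Ω')).Exact ∧
          Epi (((DCoh.tensorBi (X := X)).flip.obj Ω').map S.g) :=
      ((Functor.preservesFiniteColimits_tfae ((DCoh.tensorBi (X := X)).flip.obj Ω')).out 3 0).mp ‹_›
    exact (hh _ (shortExact hι)).1
  · exact inferInstanceAs (Epi (((DCoh.tensorBi (X := X)).flip.obj Ω').map D.π))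

lemma tm_ι_π : tm Ω' ι ≫ tm Ω' D.π = 0 := by
  rw [← tm_comp, ι_π hι, tm_zero]

lemma mono_tm_ι (hE : FlatMod.IsFinLocFree E) : Mono (tm Ω' ι) := by
  rw [tm_eq]
  exact (shortExact_tensor hι Ω' hE).mono_f

lemma lift_tm (hE : FlatMod.IsFinLocFree E) {M : X.Modules} (f : M ⟶ CohB1.tensorMod D.sheaf Ω')
    (hf : f ≫ tm Ω' D.π = 0) : ∃ g, g ≫ tm Ω' ι = f := by
  haveI := (shortExact_tensor hι Ω' hE).mono_f
  rw [tm_eq] at hf ⊢
  exact (shortExact_tensor hι Ω' hE).exact.lift' f hf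

lemma desc_π {M : X.Modules} (f : D.sheaf ⟶ M) (hf : ι ≫ f = 0) : ∃ g, D.π ≫ g = f := by
  haveI := (shortExact hι).epi_g
  exact (shortExact hι).exact.desc' f hf

omit hι

/-! ### Connections as morphisms of abelian sheaves -/

variable {Ω'}

/-- The underlying map of abelian sheaves. -/
abbrev ab {M N : X.Modules} (f : M ⟶ N) : Coh.toAb M ⟶ Coh.toAb N :=
  (SheafOfModules.toSheaf X.ringCatSheaf).map f

lemma ab_injective {M N : X.Modules} {f g : M ⟶ N} (h : ab f = ab g) : f = g :=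
  (SheafOfModules.toSheaf X.ringCatSheaf).map_injective h

lemma ab_comp {M N P : X.Modules} (f : M ⟶ N) (g : N ⟶ P) : ab (f ≫ g) = ab f ≫ ab g :=
  (SheafOfModules.toSheaf X.ringCatSheaf).map_comp f g

lemma ab_id (M : X.Modules) : ab (𝟙 M) = 𝟙 _ :=
  (SheafOfModules.toSheaf X.ringCatSheaf).map_id M

lemma ab_zero (M N : X.Modules) : ab (0 : M ⟶ N) = 0 :=
  (SheafOfModules.toSheaf X.ringCatSheaf).map_zero M N

lemma ab_add {M N : X.Modules} (f g : M ⟶ N) : ab (f + g) = ab f + ab g :=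
  (SheafOfModules.toSheaf X.ringCatSheaf).map_add

lemma ab_sub {M N : X.Modules} (f g : M ⟶ N) : ab (f - g) = ab f - ab g :=
  (SheafOfModules.toSheaf X.ringCatSheaf).map_sub

lemma isHorizontal_iff {M M' : X.Modules} (c : Coh.toAb M ⟶ Coh.toAb (CohB1.tensorMod M Ω'))
    (c' : Coh.toAb M' ⟶ Coh.toAb (CohB1.tensorMod M' Ω')) (φ : M ⟶ M') :
    ConnSh.IsHorizontal c c' φ ↔ ab φ ≫ c' = c ≫ ab (tm Ω' φ) := by
  constructor
  · intro h
    refine Sheaf.hom_ext (NatTrans.ext (funext fun U => ConcreteCategory.ext_apply fun e => ?_))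
    exact h U.unop e
  · intro h U e
    exact congr(($h).hom.app (op U) e)

lemma exists_linear_diff {δ : OmegaSh.Der (X ↘ Spec (CommRingCat.of k)) Ω'} {M : X.Modules}
    {c c' : Coh.toAb M ⟶ Coh.toAb (CohB1.tensorMod M Ω')} (hc : ConnSh.IsConn δ M c)
    (hc' : ConnSh.IsConn δ M c') : ∃ ψ : M ⟶ CohB1.tensorMod M Ω', ab ψ = c - c' := by
  refine ⟨⟨PresheafOfModules.homMk (c - c').hom fun U r m => ?_⟩, ?_⟩
  · show ConnSh.secApp c U.unop (r • m) - ConnSh.secApp c' U.unop (r • m) =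
      r • (ConnSh.secApp c U.unop m - ConnSh.secApp c' U.unop m)
    rw [smul_sub]
    erw [hc U.unop r m, hc' U.unop r m]
    exact add_sub_add_right_eq_sub _ _ _
  · exact Sheaf.hom_ext rfl

lemma isConn_add {δ : OmegaSh.Der (X ↘ Spec (CommRingCat.of k)) Ω'} {M : X.Modules}
    {c : Coh.toAb M ⟶ Coh.toAb (CohB1.tensorMod M Ω')} (hc : ConnSh.IsConn δ M c)
    (ψ : M ⟶ CohB1.tensorMod M Ω') : ConnSh.IsConn δ M (c + ab ψ) := by
  intro U t e
  have h2 : ConnSh.secApp (ab ψ) U (t • e) = t • ConnSh.secApp (ab ψ) U e :=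
    Scheme.Modules.Hom.app_smul ψ t e
  have h3 : ∀ x, ConnSh.secApp (c + ab ψ) U x = ConnSh.secApp c U x + ConnSh.secApp (ab ψ) U x :=
    fun _ => rfl
  rw [h3, h3, h2, hc U t e, smul_add]
  exact add_right_comm _ _ _

end

end Groth.Agent.Lib.DefoDual.Basic
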