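import Groth.Agent.Lib.Cech.Compare
import Mathlib.CategoryTheory.Limits.FunctorCategory.EpiMono

/-!
# The first Cech group of a covering with acyclic members
-/

set_option autoImplicit false
universe u

open CategoryTheory CategoryTheory.Limits TopologicalSpace Opposite CategoryTheory.Abelian

namespace Groth.Agent.Lib.DefoDual.Cech1

open Groth.Agent.Lib.Cech Groth.Agent.Lib.Cech.Complex Groth.Agent.Lib.Cech.Sections Groth.Agent.Lib.Cech.Acyclic

variable {X : TopCat.{u}} {ι : Type u} (U : ι → Opens X)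

/-- The complexes of an exact sequence of presheaves. -/
noncomputable def cxP (S : ShortComplex ((Opens X)ᵒᵖ ⥤ AddCommGrpCat.{u})) :
    ShortComplex (CochainComplex AddCommGrpCat.{u} ℕ) :=
  ShortComplex.mk ((cechComplexFunctor U).map S.f) ((cechComplexFunctor U).map S.g) (by
    ext q x
    apply (equiv U S.X₃ q).injective
    rw [HomologicalComplex.comp_f, ConcreteCategory.comp_apply, equiv_naturality, equiv_naturality]
    erw [map_zero]
    funext i
    exact ConcreteCategory.congr_hom (congrArg (fun φ => φ.app (op (inter U i))) S.zero) _)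

lemma shortExact_cxP {S : ShortComplex ((Opens X)ᵒᵖ ⥤ AddCommGrpCat.{u})} (hS : S.ShortExact) :
    (cxP U S).ShortExact := by
  have hV : ∀ W : Opens X, (S.map ((evaluation _ AddCommGrpCat.{u}).obj (op W))).ShortExact :=
    fun W => hS.map_of_exact _
  apply HomologicalComplex.shortExact_of_degreewise_shortExact
  intro q
  refine { exact := ?_, mono_f := ?_, epi_g := ?_ }
  · rw [ShortComplex.ab_exact_iff]
    intro x hx
    have h : Complex.map S.g q (equiv U S.X₂ q x) = 0 :=
      (equiv_naturality S.g q x).symm.trans ((congrArg (equiv U S.X₃ q) hx).trans (map_zero _))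
    choose t ht using fun i => (ShortComplex.ab_exact_iff _).mp (hV (inter U i)).exact (equiv U S.X₂ q x i) (congr_fun h i)
    obtain ⟨y, hy⟩ := (equiv U S.X₁ q).surjective t
    refine ⟨y, (equiv U S.X₂ q).injective ?_⟩
    refine (equiv_naturality S.f q y).trans (funext fun i => ?_)
    rw [hy]; exact ht i
  · refine (AddCommGrpCat.mono_iff_injective _).mpr fun x y h => ?_
    apply (equiv U S.X₁ q).injective
    have h2 := congrArg (equiv U S.X₂ q) h
    erw [equiv_naturality, equiv_naturality] at h2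
    exact funext fun i => (AddCommGrpCat.mono_iff_injective _).mp (hV (inter U i)).mono_f (congr_fun h2 i)
  · refine (AddCommGrpCat.epi_iff_surjective _).mpr fun z => ?_
    choose t ht using fun i => (AddCommGrpCat.epi_iff_surjective _).mp (hV (inter U i)).epi_g (equiv U S.X₃ q z i)
    obtain ⟨y, hy⟩ := (equiv U S.X₂ q).surjective t
    refine ⟨y, (equiv U S.X₃ q).injective ?_⟩
    refine (equiv_naturality S.g q y).trans (funext fun i => ?_)
    rw [hy]; exact ht i

/-- A map of presheaves which is bijective on the members and injective on all opens. -/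
theorem isIso_homologyMap_zero {P Q : (Opens X)ᵒᵖ ⥤ AddCommGrpCat.{u}} (φ : P ⟶ Q)
    (hinj : ∀ W : Opens X, Function.Injective (φ.app (op W)))
    (hsurj : ∀ i : Fin 1 → ι, Function.Surjective (φ.app (op (inter U i)))) :
    IsIso (HomologicalComplex.homologyMap ((cechComplexFunctor U).map φ) 0) := by
  have hm : ∀ q, Function.Injective (((cechComplexFunctor U).map φ).f q) := fun q x y h => by
    apply (equiv U P q).injective
    have h2 := congrArg (equiv U Q q) h
    erw [equiv_naturality, equiv_naturality] at h2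
    exact funext fun i => hinj _ (congr_fun h2 i)
  have hs : Function.Surjective (((cechComplexFunctor U).map φ).f 0) := fun z => by
    choose t ht using fun i : Fin 1 → ι => hsurj i (equiv U Q 0 z i)
    obtain ⟨y, hy⟩ := (equiv U P 0).surjective t
    refine ⟨y, (equiv U Q 0).injective ?_⟩
    refine (equiv_naturality φ 0 y).trans (funext fun i => ?_)
    rw [hy]; exact ht i
  haveI : IsIso (((cechComplexFunctor U).map φ).f 0) :=
    (ConcreteCategory.isIso_iff_bijective _).mpr ⟨hm 0, hs⟩
  let τ := (HomologicalComplex.shortComplexFunctor AddCommGrpCat.{u} (ComplexShape.up ℕ) 0).map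
    ((cechComplexFunctor U).map φ)
  have h1 : Epi τ.τ₁ := by
    show Epi (((cechComplexFunctor U).map φ).f ((ComplexShape.up ℕ).prev 0))
    rw [CochainComplex.prev_nat_zero]; infer_instance
  have h2 : IsIso τ.τ₂ := inferInstanceAs (IsIso (((cechComplexFunctor U).map φ).f 0))
  have h3 : Mono τ.τ₃ := (AddCommGrpCat.mono_iff_injective _).mpr (hm _)
  exact ShortComplex.isIso_homologyMap_of_epi_of_isIso_of_mono' τ h1 h2 h3

/-- Cech cohomology in degree one of a covering with acyclic members computes sheaf cohomology. -/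
theorem nonempty_cechH_one_addEquiv_H (hcov : iSup U = ⊤) (F : CohTop.Ab X)
    (hF : ∀ i, Subsingleton (CohTop.HU F 1 (U i))) :
    Nonempty (CohTop.cechH F.obj U 1 ≃+ CohTop.H F 1) := by
  have hT : IsTerminal (⊤ : Opens X) := isTerminalTop
  let S := cokerSeq (Injective.ι F)
  have hS : S.ShortExact := cokerSeq_shortExact _
  have : Injective S.X₂ := inferInstanceAs (Injective (Injective.under F))
  let T : ShortComplex ((Opens X)ᵒᵖ ⥤ AddCommGrpCat.{u}) :=
    ShortComplex.mk S.f.hom (cokernel.π S.f.hom) (cokernel.condition _)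
  haveI : Mono S.f.hom := by
    have := hS.mono_f
    exact inferInstanceAs (Mono ((sheafToPresheaf _ _).map S.f))
  have hT' : T.ShortExact :=
    { exact := ShortComplex.exact_of_g_is_cokernel _ (cokernelIsCokernel _)
      mono_f := inferInstanceAs (Mono S.f.hom)
      epi_g := inferInstanceAs (Epi (cokernel.π S.f.hom)) }
  have hC := shortExact_cxP U hT'
  let qm : T.X₃ ⟶ S.X₃.obj := cokernel.desc S.f.hom S.g.hom (congrArg (fun φ => φ.hom) S.zero)
  have hqm : T.g ≫ qm = S.g.hom := cokernel.π_desc _ _ _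
  have hqa : ∀ W t, qm.app (op W) (T.g.app (op W) t) = S.g.hom.app (op W) t := fun W t =>
    ConcreteCategory.congr_hom (congrArg (fun φ => φ.app (op W)) hqm) t
  have hsur : ∀ W : Opens X, Function.Surjective (T.g.app (op W)) := fun W =>
    (AddCommGrpCat.epi_iff_surjective _).mp
      (hT'.map_of_exact ((evaluation _ AddCommGrpCat.{u}).obj (op W))).epi_g
  have hinj : ∀ W : Opens X, Function.Injective (qm.app (op W)) := fun W => by
    refine (injective_iff_map_eq_zero _).mpr fun z hz => ?_
    obtain ⟨t, rfl⟩ := hsur W z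
    rw [hqa] at hz
    obtain ⟨a, rfl⟩ := app_exact hS W t hz
    exact ConcreteCategory.congr_hom (congrArg (fun φ => φ.app (op W)) T.zero) a
  haveI := isIso_homologyMap_zero U qm hinj fun i z => by
    have e : inter U i = U (i 0) :=
      le_antisymm (inter_le U i 0) (le_iInf fun a => by rw [Fin.fin_one_eq_zero a])
    haveI : Subsingleton (CohTop.HU S.X₁ 1 (inter U i)) := by rw [e]; exact hF _
    obtain ⟨t, ht⟩ := app_surjective hS (inter U i) z
    exact ⟨_, (hqa _ t).trans ht⟩
  let θ := HomologicalComplex.homologyMap ((cechComplexFunctor U).map qm) 0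
  have hI : IsZero ((cxP U T).X₂.homology 1) :=
    (isZero_homology_succ_iff U S.X₂.obj 0).mpr (exactSucc_of_injective U S.X₂ 0)
  let C := (constantSheaf (Opens.grothendieckTopology X) AddCommGrpCat.{u}).obj
    (AddCommGrpCat.of (ULift ℤ))
  let φ : S.X₃.obj.obj (op ⊤) →+ CohTop.cechH F.obj U 1 :=
    (Compare.toH0 U S.X₃.obj ≫ inv θ ≫ hC.δ 0 1 (by simp)).hom
  let δ : CohTop.H S.X₃ 0 →+ CohTop.H S.X₁ 1 := hS.extClass.postcomp C rfl
  let ψ : S.X₃.obj.obj (op ⊤) →+ CohTop.H F 1 :=
    δ.comp (Sheaf.H.equiv₀ S.X₃ hT).symm.toAddMonoidHom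
  have hφs : Function.Surjective φ := fun y => by
    obtain ⟨z, hz⟩ := (ShortComplex.ab_exact_iff _).mp (hC.homology_exact₁ 0 1 (by simp)) y
      (by
        have := AddCommGrpCat.subsingleton_of_isZero hI
        exact Subsingleton.elim (α := ((cxP U T).X₂.homology 1 : AddCommGrpCat.{u})) _ _)
    obtain ⟨g, hg⟩ := (Compare.toH0_bijective U hcov S.X₃).2 (θ z)
    refine ⟨g, ?_⟩
    show hC.δ 0 1 _ (inv θ (Compare.toH0 U S.X₃.obj g)) = y
    rw [hg, ← ConcreteCategory.comp_apply, IsIso.hom_inv_id]
    exact hz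
  have hψs : Function.Surjective ψ := fun y => by
    obtain ⟨x₃, hx₃⟩ := Ext.covariant_sequence_exact₁ C hS y
      (Ext.eq_zero_of_injective _) (zero_add 1)
    exact ⟨Sheaf.H.equiv₀ S.X₃ hT x₃, (congrArg δ (AddEquiv.symm_apply_apply _ _)).trans hx₃⟩
  refine ⟨Compare.equivOfKerEq φ ψ hφs hψs (AddSubgroup.ext fun g => ?_)⟩
  rw [AddMonoidHom.mem_ker, AddMonoidHom.mem_ker]
  have hθ : ∀ w, θ (HomologicalComplex.homologyMap (cxP U T).g 0 w) =
      HomologicalComplex.homologyMap ((cechComplexFunctor U).map S.g.hom) 0 w := fun w => by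
    rw [← hqm, Functor.map_comp, HomologicalComplex.homologyMap_comp, ConcreteCategory.comp_apply]
    rfl
  have key : φ g = 0 ↔ ∃ i, S.g.hom.app (op ⊤) i = g := by
    constructor
    · intro hg
      obtain ⟨z, hz⟩ := (ShortComplex.ab_exact_iff _).mp (hC.homology_exact₃ 0 1 (by simp)) _ hg
      obtain ⟨i, hi⟩ := (Compare.toH0_bijective U hcov S.X₂).2 z
      refine ⟨i, (Compare.toH0_bijective U hcov S.X₃).1
        ((ConcreteCategory.congr_hom (Compare.toH0_naturality U S.X₂.obj S.g.hom) i).trans ?_)⟩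
      rw [ConcreteCategory.comp_apply, hi, ← hθ]
      refine (congrArg θ hz).trans ?_
      exact ConcreteCategory.congr_hom (IsIso.inv_hom_id θ) _
    · rintro ⟨i, rfl⟩
      show hC.δ 0 1 _ (inv θ (Compare.toH0 U S.X₃.obj (S.g.hom.app (op ⊤) i))) = 0
      rw [← ConcreteCategory.comp_apply (S.g.hom.app (op ⊤)), Compare.toH0_naturality,
        ConcreteCategory.comp_apply, ← hθ, ← ConcreteCategory.comp_apply θ, IsIso.hom_inv_id]
      exact ConcreteCategory.congr_hom (hC.comp_δ 0 1 (by simp)) _
  rw [key]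
  constructor
  · rintro ⟨i, rfl⟩
    show δ ((Sheaf.H.equiv₀ S.X₃ hT).symm (S.g.hom.app (op ⊤) i)) = 0
    rw [← Sheaf.H.equiv₀_symm_naturality (f := S.g) (hT := hT) i]
    show Ext.comp _ hS.extClass (zero_add 1) = 0
    rw [Sheaf.H.map_apply, Ext.comp_assoc_of_second_deg_zero, hS.comp_extClass, Ext.comp_zero]
  · intro hg
    obtain ⟨x₂, hx₂⟩ := Ext.covariant_sequence_exact₃ C hS _ (zero_add 1) hg
    refine ⟨Sheaf.H.equiv₀ S.X₂ hT x₂, ?_⟩
    rw [Sheaf.H.equiv₀_naturality (f := S.g) (hT := hT) x₂]
    apply (Sheaf.H.equiv₀ S.X₃ hT).symm.injective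
    rw [AddEquiv.symm_apply_apply]
    exact hx₂

end Groth.Agent.Lib.DefoDual.Cech1
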