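import Groth.Agent.Lib.DefoDual.Basic
import Groth.Agent.Lib.ExtOne.Realize
import Groth.Prelude.Def_DefoSh2

/-!
# First order deformations of a module and extensions
-/

noncomputable section
set_option autoImplicit false
universe u

open CategoryTheory Limits AlgebraicGeometry Opposite TensorProduct

namespace Groth.Agent.Lib.DefoDual.FirstOrder

open Groth.Agent.Lib.DefoDual.Basic

variable {k : Type u} [Field k] {X : Scheme.{u}} [X.Over (Spec (CommRingCat.of k))] {E : X.Modules}

/-- Every deformation has a multiplication by `ε`. -/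
theorem exists_isEps (D : DefoSh.Defo E (ArtFun.Art.dual k k)) : ∃ ι : E ⟶ D.sheaf, IsEps D ι := by
  haveI := epi_π D
  have h0 : kernel.ι D.π ≫ actM D eps = 0 := by
    refine Modules.StalkModule.hom_ext_stalkMapₗ fun p => LinearMap.ext fun v => ?_
    show RefHull.stalkMapₗ (kernel.ι D.π ≫ actM D eps) p v = RefHull.stalkMapₗ (0 : kernel D.π ⟶ D.sheaf) p v
    rw [DefoSh.stalkMapₗ_comp_apply]
    refine Eq.trans ?_ (DefoSh.stalkMapₗ_zero_apply p v).symm
    have hv : RefHull.stalkMapₗ D.π p (RefHull.stalkMapₗ (kernel.ι D.π) p v) = 0 := by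
      rw [← DefoSh.stalkMapₗ_comp_apply, kernel.condition, DefoSh.stalkMapₗ_zero_apply]
    have hm := D.ker_le p _ hv
    generalize RefHull.stalkMapₗ (kernel.ι D.π) p v = w at hm ⊢
    letI := DefoSh.stalkModule D.sheaf D.act.toRingHom p
    induction hm using Submodule.smul_induction_on' with
    | smul a ha y _ =>
      show (eps (k := k)) • (a • y) = (0 : D.sheaf.presheaf.stalk p)
      have ha0 : TrivSqZeroExt.fst a = 0 := (ArtFun.Art.mem_maximalIdeal_iff _ a).mp ha
      have hz : (eps : (ArtFun.Art.dual k k : ArtFun.Art k k)) * a = 0 := by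
        show (DualNumber.eps : DualNumber k) * (show DualNumber k from a) = 0
        have ha1 : TrivSqZeroExt.fst (show DualNumber k from a) = 0 := ha0
        refine TrivSqZeroExt.ext ?_ ?_ <;> simp [ha1]
      rw [← mul_smul, hz, zero_smul]
    | add x _ y _ hx hy =>
      rw [map_add, hx, hy, add_zero]
  exact ⟨Abelian.epiDesc D.π (actM D eps) h0, Abelian.comp_epiDesc _ _ _⟩

/-- Multiplication by `ε`. -/
def iEps (D : DefoSh.Defo E (ArtFun.Art.dual k k)) : E ⟶ D.sheaf := (exists_isEps D).choose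

lemma isEps_iEps (D : DefoSh.Defo E (ArtFun.Art.dual k k)) : IsEps D (iEps D) := (exists_isEps D).choose_spec

theorem flat_of_extension {M : X.Modules} {i : E ⟶ M} {g : M ⟶ E} (w : i ≫ g = 0)
    (hinj : ∀ p, Function.Injective (RefHull.stalkMapₗ i p))
    (hsurj : ∀ p, Function.Surjective (RefHull.stalkMapₗ g p))
    (hex : ∀ p (v : M.presheaf.stalk p), RefHull.stalkMapₗ g p v = 0 → ∃ e, RefHull.stalkMapₗ i p e = v)
    (act : DualNumber k →ₐ[k] End M) (heps : (act (DualNumber.eps : DualNumber k) : M ⟶ M) = g ≫ i) (p : X) :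
    @Module.Flat (DualNumber k) ↑(M.presheaf.stalk p) _ _ (DefoSh.stalkModule M act.toRingHom p) := by
  letI mL : Module (DualNumber k) ↑(M.presheaf.stalk p) := DefoSh.stalkModule M act.toRingHom p
  letI mV : Module k ↑(E.presheaf.stalk p) := DefoSh.stalkModule E (Algebra.ofId k (End E)).toRingHom p
  letI mLk : Module k ↑(M.presheaf.stalk p) := Module.compHom _ (algebraMap k (DualNumber k))
  haveI : IsScalarTower k (DualNumber k) ↑(M.presheaf.stalk p) := ⟨fun c z l => by
    change (c • z) • l = (algebraMap k (DualNumber k) c) • (z • l)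
    rw [Algebra.smul_def, mul_smul]⟩
  have hV : ∀ (c : k) (v : E.presheaf.stalk p), c • v = RefHull.stalkMapₗ (c • 𝟙 E) p v := fun c v => by
    change RefHull.stalkMapₗ (algebraMap k (End E) c) p v = _
    rw [Algebra.algebraMap_eq_smul_one]; rfl
  have hLk : ∀ (c : k) (l : M.presheaf.stalk p), c • l = RefHull.stalkMapₗ (c • 𝟙 M) p l := fun c l => by
    change RefHull.stalkMapₗ (act (algebraMap k (DualNumber k) c)) p l = _
    rw [AlgHom.commutes, Algebra.algebraMap_eq_smul_one]; rfl
  let gl : ↑(M.presheaf.stalk p) →ₗ[k] ↑(E.presheaf.stalk p) :=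
    { toFun := RefHull.stalkMapₗ g p
      map_add' := map_add _
      map_smul' := fun c l => by
        rw [RingHom.id_apply, hV, hLk, ← DefoSh.stalkMapₗ_comp_apply, ← DefoSh.stalkMapₗ_comp_apply,
          Linear.smul_comp, Linear.comp_smul, Category.id_comp, Category.comp_id] }
  obtain ⟨s, hs⟩ := gl.exists_rightInverse_of_surjective (LinearMap.range_eq_top.2 (hsurj p))
  have hs' : ∀ e, RefHull.stalkMapₗ g p (s e) = e := fun e => LinearMap.congr_fun hs e
  let f := LinearMap.liftBaseChange (DualNumber k) s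
  have hεs : ∀ e, (DualNumber.eps : DualNumber k) • s e = RefHull.stalkMapₗ i p e := fun e => by
    show RefHull.stalkMapₗ (act (DualNumber.eps : DualNumber k) : M ⟶ M) p (s e) = _
    rw [heps, DefoSh.stalkMapₗ_comp_apply, hs']
  have hform : ∀ t : DualNumber k ⊗[k] ↑(E.presheaf.stalk p),
      ∃ a b, t = (1 : DualNumber k) ⊗ₜ a + (DualNumber.eps : DualNumber k) ⊗ₜ b := by
    intro t
    induction t using TensorProduct.induction_on with
    | zero => exact ⟨0, 0, by simp⟩
    | add x y hx hy =>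
      obtain ⟨a, b, rfl⟩ := hx
      obtain ⟨a', b', rfl⟩ := hy
      exact ⟨a + a', b + b', by rw [TensorProduct.tmul_add, TensorProduct.tmul_add]; abel⟩
    | tmul z v =>
      refine ⟨z.fst • v, z.snd • v, ?_⟩
      rw [TensorProduct.tmul_smul, TensorProduct.tmul_smul, TensorProduct.smul_tmul', TensorProduct.smul_tmul',
        ← TensorProduct.add_tmul]
      congr 1
      ext <;> simp
  have hf : ∀ a b, f ((1 : DualNumber k) ⊗ₜ a + (DualNumber.eps : DualNumber k) ⊗ₜ b) =
      s a + RefHull.stalkMapₗ i p b := fun a b => by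
    rw [map_add, LinearMap.liftBaseChange_tmul, LinearMap.liftBaseChange_tmul, one_smul, hεs]
  have hgi : ∀ e, RefHull.stalkMapₗ g p (RefHull.stalkMapₗ i p e) = 0 := fun e => by
    rw [← DefoSh.stalkMapₗ_comp_apply, w, DefoSh.stalkMapₗ_zero_apply]
  have hbij : Function.Bijective f := by
    refine ⟨(injective_iff_map_eq_zero f).2 fun t ht => ?_, fun l => ?_⟩
    · obtain ⟨a, b, rfl⟩ := hform t
      rw [hf] at ht
      have ha : a = 0 := by
        have := congrArg (RefHull.stalkMapₗ g p) ht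
        rwa [map_add, hs', hgi, add_zero, map_zero] at this
      subst ha
      rw [map_zero, zero_add] at ht
      have hb : b = 0 := hinj p (ht.trans (map_zero _).symm)
      subst hb
      simp
    · obtain ⟨e, he⟩ := hex p (l - s (RefHull.stalkMapₗ g p l)) (by rw [map_sub, hs', sub_self])
      exact ⟨(1 : DualNumber k) ⊗ₜ RefHull.stalkMapₗ g p l + (DualNumber.eps : DualNumber k) ⊗ₜ e,
        by rw [hf, he]; abel⟩
  exact Module.Flat.of_linearEquiv (LinearEquiv.ofBijective f hbij).symm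

variable [HasExt.{u} X.Modules]

/-- The extension class of a deformation. -/
def dcl (D : DefoSh.Defo E (ArtFun.Art.dual k k)) : Abelian.Ext.{u} E E 1 :=
  (shortExact (isEps_iEps D)).extClass

theorem dcl_eq_of_ι (D : DefoSh.Defo E (ArtFun.Art.dual k k)) (i : E ⟶ D.sheaf) (hi : D.π ≫ i = actM D eps)
    (h0 : i ≫ D.π = 0) (hS : (ShortComplex.mk i D.π h0).ShortExact) : dcl D = hS.extClass := by
  haveI := epi_π D
  have e : iEps D = i := (cancel_epi D.π).1 ((isEps_iEps D).trans hi.symm)
  subst e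
  rfl

theorem dcl_eq_of_iso {D D' : DefoSh.Defo E (ArtFun.Art.dual k k)} (e : D.Iso D') : dcl D = dcl D' := by
  haveI := epi_π D
  have hι : iEps D ≫ e.iso.hom = iEps D' := by
    rw [← cancel_epi D.π, ← Category.assoc, isEps_iEps D]
    refine (e.act_hom eps).trans ?_
    show e.iso.hom ≫ actM D' eps = D.π ≫ iEps D'
    rw [← isEps_iEps D', ← Category.assoc, e.hom_π]
  let τ : seq (isEps_iEps D) ⟶ seq (isEps_iEps D') :=
    { τ₁ := 𝟙 E, τ₂ := e.iso.hom, τ₃ := 𝟙 E
      comm₁₂ := by show 𝟙 E ≫ iEps D' = iEps D ≫ e.iso.hom; rw [Category.id_comp, hι]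
      comm₂₃ := by show e.iso.hom ≫ D'.π = D.π ≫ 𝟙 E; rw [Category.comp_id, e.hom_π] }
  have h := (shortExact (isEps_iEps D)).extClass_naturality (shortExact (isEps_iEps D')) τ
  simp only [τ, Abelian.Ext.comp_mk₀_id, Abelian.Ext.mk₀_id_comp] at h
  exact h

theorem nonempty_iso_of_dcl_eq {D D' : DefoSh.Defo E (ArtFun.Art.dual k k)} (h : dcl D = dcl D') :
    Nonempty (D.Iso D') := by
  have hS := shortExact (isEps_iEps D)
  have hS' := shortExact (isEps_iEps D')
  obtain ⟨b, hb₁, hb₂⟩ := Groth.Agent.Lib.ExtOne.exists_middle_hom hS hS' (𝟙 E) (𝟙 E)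
    (by rw [Abelian.Ext.comp_mk₀_id, Abelian.Ext.mk₀_id_comp]; exact h)
  have hb₁' : iEps D ≫ b = iEps D' := hb₁.trans (Category.id_comp _)
  have hb₂' : b ≫ D'.π = D.π := hb₂.symm.trans (Category.comp_id _)
  let τ : seq (isEps_iEps D) ⟶ seq (isEps_iEps D') :=
    { τ₁ := 𝟙 E, τ₂ := b, τ₃ := 𝟙 E
      comm₁₂ := by show 𝟙 E ≫ iEps D' = iEps D ≫ b; rw [Category.id_comp, hb₁']
      comm₂₃ := by show b ≫ D'.π = D.π ≫ 𝟙 E; rw [Category.comp_id, hb₂'] }
  haveI : IsIso τ.τ₁ := inferInstanceAs (IsIso (𝟙 E))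
  haveI : IsIso τ.τ₃ := inferInstanceAs (IsIso (𝟙 E))
  haveI : IsIso b := ShortComplex.isIso₂_of_shortExact_of_isIso₁₃ τ hS hS'
  refine ⟨⟨asIso b, fun a => ?_, hb₂'⟩⟩
  show actM D a ≫ b = b ≫ actM D' a
  rw [act_add_smul D a, act_add_smul D' a, ← isEps_iEps D, ← isEps_iEps D']
  simp only [Preadditive.add_comp, Preadditive.comp_add, Linear.smul_comp, Linear.comp_smul, Category.id_comp,
    Category.comp_id, Category.assoc, hb₁']
  rw [reassoc_of% hb₂']

section ext

variable {M : X.Modules} {i : E ⟶ M} {g : M ⟶ E} {w : i ≫ g = 0} (hS : (ShortComplex.mk i g w).ShortExact)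

/-- The action on an extension. -/
def extAct (w : i ≫ g = 0) : DualNumber k →ₐ[k] End M :=
  DualNumber.lift ⟨(Algebra.ofId k (End M), (g ≫ i : End M)), by
    show (g ≫ i) ≫ g ≫ i = 0
    rw [Category.assoc, reassoc_of% w, zero_comp, comp_zero], fun a => (Algebra.commutes a _).symm⟩

omit [HasExt.{u} X.Modules] in
lemma extAct_apply (z : DualNumber k) :
    (extAct (k := k) w z : M ⟶ M) = z.fst • 𝟙 M + z.snd • (g ≫ i) := by
  show algebraMap k (End M) z.fst + (algebraMap k (End M) z.snd) * (show End M from g ≫ i) = _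
  rw [Algebra.algebraMap_eq_smul_one, Algebra.algebraMap_eq_smul_one, smul_mul_assoc, one_mul]
  rfl

omit [HasExt.{u} X.Modules] in
lemma extAct_eps : (extAct (k := k) w (DualNumber.eps : DualNumber k) : M ⟶ M) = g ≫ i := by
  rw [extAct_apply]; simp

include hS in
omit [HasExt.{u} X.Modules] in
lemma ext_stalk_surj (p : X) : Function.Surjective (RefHull.stalkMapₗ g p) := by
  haveI : Epi g := hS.epi_g
  exact (Modules.StalkModule.epi_iff_stalkMapₗ_surjective g).mp inferInstance p

include hS in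
omit [HasExt.{u} X.Modules] in
lemma ext_stalk_inj (p : X) : Function.Injective (RefHull.stalkMapₗ i p) := by
  haveI : Mono i := hS.mono_f
  exact (Modules.StalkModule.mono_iff_stalkMapₗ_injective i).mp inferInstance p

include hS in
omit [HasExt.{u} X.Modules] in
lemma ext_stalk_exact (p : X) (v : M.presheaf.stalk p) (hv : RefHull.stalkMapₗ g p v = 0) :
    ∃ e, RefHull.stalkMapₗ i p e = v := by
  have := (Modules.Stalk.exact_iff_stalk (ShortComplex.mk i g w)).mp hS.exact p
  rw [ShortComplex.ab_exact_iff] at this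
  exact this v hv

/-- The deformation of an extension. -/
def ofExt : DefoSh.Defo (k := k) E (ArtFun.Art.dual k k) where
  sheaf := M
  act := extAct w
  π := g
  act_π a ha := by
    show (extAct w (a : DualNumber k) : M ⟶ M) ≫ g = 0
    rw [extAct_apply, show TrivSqZeroExt.fst (a : DualNumber k) = 0 from ha, zero_smul, zero_add, Linear.smul_comp,
      Category.assoc, w, comp_zero, smul_zero]
  surj := ext_stalk_surj hS
  ker_le p v hv := by
    letI : Module (ArtFun.Art.dual k k : ArtFun.Art k k) ↑(M.presheaf.stalk p) :=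
      DefoSh.stalkModule (A := (ArtFun.Art.dual k k : ArtFun.Art k k)) M (extAct (k := k) w).toRingHom p
    obtain ⟨e, rfl⟩ := ext_stalk_exact hS p v hv
    obtain ⟨y, rfl⟩ := ext_stalk_surj hS p e
    have hε : (eps : (ArtFun.Art.dual k k : ArtFun.Art k k)) ∈ IsLocalRing.maximalIdeal _ := by
      rw [ArtFun.Art.mem_maximalIdeal_iff]; rfl
    have he : RefHull.stalkMapₗ i p (RefHull.stalkMapₗ g p y) =
        (eps : (ArtFun.Art.dual k k : ArtFun.Art k k)) • y := by
      show _ = RefHull.stalkMapₗ (extAct (k := k) w (DualNumber.eps : DualNumber k) : M ⟶ M) p y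
      rw [extAct_eps, DefoSh.stalkMapₗ_comp_apply]
    rw [he]
    exact Submodule.smul_mem_smul hε Submodule.mem_top
  flat p := flat_of_extension w (ext_stalk_inj hS) (ext_stalk_surj hS) (ext_stalk_exact hS) (extAct w) extAct_eps p

theorem dcl_ofExt : dcl (ofExt (k := k) hS) = hS.extClass :=
  dcl_eq_of_ι (ofExt (k := k) hS) i (extAct_eps (k := k) (w := w)).symm w hS

end ext

variable (k) in
theorem exists_dcl (c : Abelian.Ext.{u} E E 1) : ∃ D : DefoSh.Defo E (ArtFun.Art.dual k k), dcl D = c := by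
  obtain ⟨M, i, g, w, hS, rfl⟩ := Groth.Agent.Lib.ExtOne.exists_shortExact_extClass c
  exact ⟨ofExt hS, dcl_ofExt hS⟩

/-- The classes of deformations and extensions. -/
theorem exists_equiv :
    ∃ e : DefoSh.FirstOrder k E ≃ Abelian.Ext.{u} E E 1,
      e (DefoSh.Defo.trivDual k E).cl = 0 ∧
      ∀ (D : DefoSh.Defo E (ArtFun.Art.dual k k)) (i : E ⟶ D.sheaf)
        (_ : D.π ≫ i = D.act (DualNumber.eps : DualNumber k))
        (h0 : i ≫ D.π = 0) (hS : (ShortComplex.mk i D.π h0).ShortExact),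
        e D.cl = hS.extClass := by
  let F : DefoSh.FirstOrder k E → Abelian.Ext.{u} E E 1 := Quotient.lift dcl fun D D' ⟨e⟩ => dcl_eq_of_iso e
  have hF : Function.Bijective F := by
    refine ⟨fun a b => ?_, fun c => ?_⟩
    · induction a using Quotient.inductionOn with | h D => ?_
      induction b using Quotient.inductionOn with | h D' => ?_
      exact fun h => Quotient.sound (nonempty_iso_of_dcl_eq h)
    · obtain ⟨D, hD⟩ := exists_dcl k c
      exact ⟨D.cl, hD⟩
  refine ⟨Equiv.ofBijective F hF, ?_, fun D i hi h0 hS => dcl_eq_of_ι D i hi h0 hS⟩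
  show dcl (DefoSh.Defo.trivDual k E) = 0
  let D := DefoSh.Defo.trivDual k E
  have hS : (seq (isEps_iEps D)).ShortExact := shortExact (isEps_iEps D)
  have h := (shortExact (isEps_iEps D)).comp_extClass
  let s : E ⟶ D.sheaf := (biprod.inl : E ⟶ E ⊞ E)
  have hs : s ≫ D.π = 𝟙 E := biprod.inl_fst
  have h2 := congrArg (fun z => (Abelian.Ext.mk₀ s).comp z (zero_add 1)) h
  simp only [Abelian.Ext.mk₀_comp_mk₀_assoc, Abelian.Ext.comp_zero] at h2
  erw [hs, Abelian.Ext.mk₀_id_comp] at h2
  exact h2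

end Groth.Agent.Lib.DefoDual.FirstOrder
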